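import Groth.Agent.FlatLib.InjFibre
import Groth.Agent.FlatLib.FlatMisc

/-!
# Exactness of a complex of free modules on the closed fibre
-/

set_option autoImplicit false
set_option linter.style.haveILetI false

universe u

open TensorProduct

namespace FibFreeExactLib

theorem one_tmul_eq_zero_iff {A M : Type u} [CommRing A] [AddCommGroup M] [Module A M] (I : Ideal A) (x : M) :
    (1 : A ⧸ I) ⊗ₜ[A] x = 0 ↔ x ∈ I • (⊤ : Submodule A M) := by
  rw [← (TensorProduct.quotTensorEquivQuotSMul M I).map_eq_zero_iff, ← map_one (Ideal.Quotient.mk I),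
    TensorProduct.quotTensorEquivQuotSMul_mk_tmul, one_smul, Submodule.Quotient.mk_eq_zero]

theorem injective_lTensor_residue_iff {A M N : Type u} [CommRing A] [IsLocalRing A] [AddCommGroup M] [Module A M]
    [AddCommGroup N] [Module A N] (u : N →ₗ[A] M) :
    Function.Injective (u.lTensor (IsLocalRing.ResidueField A)) ↔
      ∀ x, u x ∈ IsLocalRing.maximalIdeal A • (⊤ : Submodule A M) →
        x ∈ IsLocalRing.maximalIdeal A • (⊤ : Submodule A N) := by
  show Function.Injective (u.lTensor (A ⧸ IsLocalRing.maximalIdeal A)) ↔ _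
  constructor
  · intro h x hx
    rw [← one_tmul_eq_zero_iff] at hx ⊢
    exact h (by rw [LinearMap.lTensor_tmul, hx, map_zero])
  · intro h
    refine (injective_iff_map_eq_zero _).mpr fun z hz => ?_
    obtain ⟨x, rfl⟩ := TensorProduct.mk_surjective A N (A ⧸ IsLocalRing.maximalIdeal A) Ideal.Quotient.mk_surjective z
    exact (one_tmul_eq_zero_iff _ x).mpr (h x ((one_tmul_eq_zero_iff _ (u x)).mp hz))

variable {A L : Type u} [CommRing A] [CommRing L] [Algebra A L]

theorem mem_smul_iff {M : Type u} [AddCommGroup M] [Module A M] [Module L M] [IsScalarTower A L M]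
    (I : Ideal A) (x : M) :
    x ∈ I • (⊤ : Submodule A M) ↔ x ∈ I.map (algebraMap A L) • (⊤ : Submodule L M) := by
  rw [← Submodule.restrictScalars_mem A (I.map (algebraMap A L) • (⊤ : Submodule L M)) x,
    Ideal.smul_restrictScalars, Submodule.restrictScalars_top]

theorem mkQ_mem_smul_iff {M : Type u} [AddCommGroup M] [Module L M] (p : Submodule L M) (J : Ideal L) (v : M) :
    p.mkQ v ∈ J • (⊤ : Submodule L (M ⧸ p)) ↔ v ∈ p ⊔ J • (⊤ : Submodule L M) := by
  rw [← Submodule.comap_map_mkQ p (J • (⊤ : Submodule L M)), Submodule.mem_comap, Submodule.map_smul'',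
    Submodule.map_top, Submodule.range_mkQ]

variable [IsLocalRing A] [IsLocalRing L] [IsNoetherianRing L] [IsLocalHom (algebraMap A L)] [Module.Flat A L]

variable {m n k : ℕ}

local notation "J" => Ideal.map (algebraMap A L) (IsLocalRing.maximalIdeal A)

/-- One step: exactness on the closed fibre lifts and leaves a flat cokernel. -/
theorem step (a : (Fin k → L) →ₗ[L] (Fin n → L)) (b : (Fin n → L) →ₗ[L] (Fin m → L))
    (hab : ∀ w, b (a w) = 0)
    (hfib : ∀ v, b v ∈ J • (⊤ : Submodule L (Fin m → L)) →
      v ∈ LinearMap.range a ⊔ J • (⊤ : Submodule L (Fin n → L))) :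
    LinearMap.ker b = LinearMap.range a ∧ Module.Flat A ((Fin m → L) ⧸ LinearMap.range b) := by
  let C := (Fin n → L) ⧸ LinearMap.range a
  let ub : C →ₗ[L] (Fin m → L) := (LinearMap.range a).liftQ b (by rintro _ ⟨w, rfl⟩; exact hab w)
  haveI : Module.Flat A (Fin m → L) := Module.Flat.trans A L _
  have h := FlatLib.injective_and_flat_coker L (ub.restrictScalars A)
    ((injective_lTensor_residue_iff _).mpr fun x hx => by
      obtain ⟨v, rfl⟩ := Submodule.mkQ_surjective _ x
      rw [mem_smul_iff (L := L)] at hx ⊢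
      exact (mkQ_mem_smul_iff _ _ v).mpr (hfib v hx))
  refine ⟨le_antisymm (fun v hv => ?_) (by rintro _ ⟨w, rfl⟩; exact hab w), ?_⟩
  · exact (Submodule.Quotient.mk_eq_zero _).mp (h.1 (show ub (Submodule.Quotient.mk v) = ub 0 by
      rw [map_zero]; exact hv))
  · have hr : LinearMap.range (ub.restrictScalars A) = (LinearMap.range b).restrictScalars A := by
      rw [LinearMap.range_restrictScalars, Submodule.range_liftQ]
    haveI := h.2
    exact Module.Flat.of_linearEquiv
      ((Submodule.Quotient.restrictScalarsEquiv A (LinearMap.range b)).symm.trans (Submodule.quotEquivOfEq _ _ hr.symm))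

/-- Exactness with a flat cokernel restricts to the closed fibre. -/
theorem step_conv (a : (Fin k → L) →ₗ[L] (Fin n → L)) (b : (Fin n → L) →ₗ[L] (Fin m → L))
    (hab : ∀ w, b (a w) = 0) (hker : LinearMap.ker b = LinearMap.range a)
    (hflat : Module.Flat A ((Fin m → L) ⧸ LinearMap.range b)) (v : Fin n → L)
    (hv : b v ∈ J • (⊤ : Submodule L (Fin m → L))) :
    v ∈ LinearMap.range a ⊔ J • (⊤ : Submodule L (Fin n → L)) := by
  let ub : ((Fin n → L) ⧸ LinearMap.range a) →ₗ[L] (Fin m → L) :=
    (LinearMap.range a).liftQ b (by rintro _ ⟨w, rfl⟩; exact hab w)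
  let g : (Fin m → L) →ₗ[A] (Fin m → L) ⧸ LinearMap.range b := (LinearMap.range b).mkQ.restrictScalars A
  have hinj : Function.Injective ub := by
    rw [← LinearMap.ker_eq_bot]
    exact Submodule.ker_liftQ_eq_bot _ _ _ hker.le
  have hex : Function.Exact (ub.restrictScalars A) g := fun y => by
    show (LinearMap.range b).mkQ y = 0 ↔ y ∈ Set.range ub
    rw [← LinearMap.coe_range, SetLike.mem_coe, Submodule.range_liftQ, Submodule.mkQ_apply,
      Submodule.Quotient.mk_eq_zero]
  have hr := FlatLib.lTensor_injective_of_flat_coker (ub.restrictScalars A) g hinj hex (Submodule.mkQ_surjective _)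
    (IsLocalRing.ResidueField A)
  have hl : Function.Injective ((ub.restrictScalars A).lTensor (IsLocalRing.ResidueField A)) := by
    rw [← LinearMap.comm_comp_rTensor_comp_comm_eq, LinearMap.coe_comp, LinearMap.coe_comp]
    exact ((TensorProduct.comm A _ _).injective.comp hr).comp (TensorProduct.comm A _ _).injective
  have := (injective_lTensor_residue_iff _).mp hl (Submodule.Quotient.mk v)
    ((mem_smul_iff (L := L) _ _).mpr hv)
  exact (mkQ_mem_smul_iff _ _ v).mp ((mem_smul_iff (L := L) _ _).mp this)

end FibFreeExactLib
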