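import Groth.Agent.FibFreeExactLib.Local
import Groth.Agent.FlatLib.Openness
import Groth.Prelude.Def_EGA4b

/-!
# Openness of fibrewise exactness of a complex of finite free modules
-/

set_option autoImplicit false
set_option linter.style.haveILetI false

universe u

open TensorProduct Matrix

namespace FibFreeExactLib

theorem mem_smul_top_pi_iff {L : Type u} [CommRing L] (P : Ideal L) {n : ℕ} (v : Fin n → L) :
    v ∈ P • (⊤ : Submodule L (Fin n → L)) ↔ ∀ j, v j ∈ P := by
  refine ⟨fun h j => ?_, fun h => ?_⟩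
  · refine Submodule.smul_induction_on h (fun r hr x _ => ?_) fun x y hx hy => P.add_mem hx hy
    exact P.mul_mem_right _ hr
  · rw [pi_eq_sum_univ' v]
    exact Submodule.sum_mem _ fun j _ => Submodule.smul_mem_smul (h j) Submodule.mem_top

theorem map_mulVecLin {S L : Type u} [CommRing S] [CommRing L] (g : S →+* L) {m n : ℕ}
    (φ : Matrix (Fin m) (Fin n) S) (v : Fin n → S) :
    (φ.map g).mulVecLin (g ∘ v) = g ∘ φ.mulVecLin v := by
  funext i
  simp only [Matrix.mulVecLin_apply, Function.comp_apply, RingHom.map_mulVec]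

theorem comp_eq_zero {S L : Type u} [CommRing S] [CommRing L] (g : S →+* L) {m n k : ℕ}
    (φ : Matrix (Fin m) (Fin n) S) (ψ : Matrix (Fin n) (Fin k) S) (h : φ * ψ = 0) (w : Fin k → L) :
    (φ.map g).mulVecLin ((ψ.map g).mulVecLin w) = 0 := by
  rw [Matrix.mulVecLin_apply, Matrix.mulVecLin_apply, Matrix.mulVec_mulVec, ← Matrix.map_mul, h,
    Matrix.map_zero g (map_zero g), Matrix.zero_mulVec]

section Pair

variable {R S : Type u} [CommRing R] [CommRing S] [Algebra R S] {m n k : ℕ}
variable (φ : Matrix (Fin m) (Fin n) S) (ψ : Matrix (Fin n) (Fin k) S) (q : PrimeSpectrum S)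

set_option quotPrecheck false in
local notation "L" => Localization.AtPrime (PrimeSpectrum.asIdeal q)
set_option quotPrecheck false in
local notation "O" => EGA4.FibLocRing R S (PrimeSpectrum.asIdeal q)
set_option quotPrecheck false in
local notation "p" => Ideal.comap (algebraMap R S) (PrimeSpectrum.asIdeal q)

/-- Exactness at the middle term at a prime. -/
def ExactAt : Prop :=
  LinearMap.ker (φ.map (algebraMap S L)).mulVecLin = LinearMap.range (ψ.map (algebraMap S L)).mulVecLin

variable (R) in
/-- Exactness at the middle term in the fibre at a prime. -/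
def FibExactAt : Prop :=
  LinearMap.ker (φ.map (algebraMap S O)).mulVecLin = LinearMap.range (ψ.map (algebraMap S O)).mulVecLin

variable (R) in
theorem fibExactAt_iff (h : φ * ψ = 0) :
    FibExactAt R φ ψ q ↔ ∀ v, (φ.map (algebraMap S L)).mulVecLin v ∈
        (p).map (algebraMap R L) • (⊤ : Submodule L (Fin m → L)) →
      v ∈ LinearMap.range (ψ.map (algebraMap S L)).mulVecLin ⊔
        (p).map (algebraMap R L) • (⊤ : Submodule L (Fin n → L)) := by
  let P := (p).map (algebraMap R L)
  let g : L →+* O := Ideal.Quotient.mk P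
  have hmap : ∀ {a b : ℕ} (χ : Matrix (Fin a) (Fin b) S),
      χ.map (algebraMap S O) = (χ.map (algebraMap S L)).map g := fun χ => by
    ext i j; rfl
  have hlift : ∀ {a : ℕ} (v : Fin a → O), ∃ v' : Fin a → L, g ∘ v' = v := fun v =>
    ⟨fun j => (Ideal.Quotient.mk_surjective (v j)).choose, funext fun j => (Ideal.Quotient.mk_surjective (v j)).choose_spec⟩
  constructor
  · intro hE v hv
    have hk : g ∘ v ∈ LinearMap.ker (φ.map (algebraMap S O)).mulVecLin := by
      rw [LinearMap.mem_ker, hmap, map_mulVecLin]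
      funext i
      exact Ideal.Quotient.eq_zero_iff_mem.mpr ((mem_smul_top_pi_iff P _).mp hv i)
    rw [show LinearMap.ker (φ.map (algebraMap S O)).mulVecLin = _ from hE] at hk
    obtain ⟨w, hw⟩ := hk
    obtain ⟨w', rfl⟩ := hlift w
    rw [hmap, map_mulVecLin] at hw
    refine Submodule.mem_sup.mpr ⟨_, ⟨w', rfl⟩, v - (ψ.map (algebraMap S L)).mulVecLin w', ?_, by abel⟩
    refine (mem_smul_top_pi_iff P _).mpr fun i => ?_
    rw [Pi.sub_apply]
    exact Ideal.Quotient.eq.mp (congr_fun hw i).symm
  · intro hE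
    refine le_antisymm (fun v hv => ?_) ?_
    · obtain ⟨v', rfl⟩ := hlift v
      rw [LinearMap.mem_ker, hmap, map_mulVecLin] at hv
      obtain ⟨_, ⟨w, rfl⟩, z, hz, hsum⟩ := Submodule.mem_sup.mp
        (hE v' ((mem_smul_top_pi_iff P _).mpr fun i => Ideal.Quotient.eq_zero_iff_mem.mp (congr_fun hv i)))
      refine ⟨g ∘ w, ?_⟩
      rw [hmap, map_mulVecLin, ← hsum]
      funext i
      simp only [Function.comp_apply, Pi.add_apply, map_add]
      rw [show g (z i) = 0 from Ideal.Quotient.eq_zero_iff_mem.mpr ((mem_smul_top_pi_iff P z).mp hz i), add_zero]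
    · rintro _ ⟨w, rfl⟩
      exact comp_eq_zero _ φ ψ h w

/-- Localisation of a map of finite free modules. -/
noncomputable abbrev loc (a : ℕ) : (Fin a → S) →ₗ[S] (Fin a → L) :=
  LinearMap.pi fun j => (Algebra.linearMap S L) ∘ₗ LinearMap.proj j

theorem loc_apply {a : ℕ} (v : Fin a → S) : loc q a v = algebraMap S L ∘ v := rfl

theorem localized'_range :
    (LinearMap.range φ.mulVecLin).localized' L q.asIdeal.primeCompl (loc q m) =
      LinearMap.range (φ.map (algebraMap S L)).mulVecLin := by
  ext x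
  rw [Submodule.mem_localized']
  constructor
  · rintro ⟨_, ⟨v, rfl⟩, s, rfl⟩
    refine ⟨IsLocalizedModule.mk' (loc q n) v s, ?_⟩
    refine IsLocalizedModule.smul_injective (loc q m) s ?_
    show s • _ = s • _
    simp only [Submonoid.smul_def, ← LinearMap.map_smul_of_tower]
    rw [← Submonoid.smul_def, ← Submonoid.smul_def, IsLocalizedModule.mk'_cancel', IsLocalizedModule.mk'_cancel',
      loc_apply, loc_apply, map_mulVecLin]
  · rintro ⟨w, rfl⟩
    obtain ⟨⟨v, s⟩, rfl⟩ := IsLocalizedModule.mk'_surjective q.asIdeal.primeCompl (loc q n) w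
    refine ⟨_, ⟨v, rfl⟩, s, ?_⟩
    refine IsLocalizedModule.smul_injective (loc q m) s ?_
    show s • _ = s • _
    simp only [Submonoid.smul_def, ← LinearMap.map_smul_of_tower, Function.uncurry_apply_pair]
    rw [← Submonoid.smul_def, ← Submonoid.smul_def, IsLocalizedModule.mk'_cancel', IsLocalizedModule.mk'_cancel',
      loc_apply, loc_apply, map_mulVecLin]

theorem exactAt_iff (h : φ * ψ = 0) :
    ExactAt φ ψ q ↔ ∀ v, φ.mulVecLin v = 0 → ∃ s : q.asIdeal.primeCompl, (s : S) • v ∈ LinearMap.range ψ.mulVecLin := by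
  constructor
  · intro hE v hv
    have hk : loc q n v ∈ LinearMap.ker (φ.map (algebraMap S L)).mulVecLin := by
      rw [LinearMap.mem_ker, loc_apply, map_mulVecLin, hv]
      funext i
      exact map_zero (algebraMap S L)
    rw [show LinearMap.ker (φ.map (algebraMap S L)).mulVecLin = _ from hE, ← localized'_range,
      Submodule.mem_localized'] at hk
    obtain ⟨r, hr, t, ht⟩ := hk
    rw [IsLocalizedModule.mk'_eq_iff, Submonoid.smul_def, ← map_smul, IsLocalizedModule.eq_iff_exists q.asIdeal.primeCompl] at ht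
    obtain ⟨c, hc⟩ := ht
    refine ⟨c * t, ?_⟩
    rw [show ((c * t : q.asIdeal.primeCompl) : S) • v = c • r from by
      rw [hc, Submonoid.coe_mul, mul_smul]; rfl]
    exact Submodule.smul_mem _ (c : S) hr
  · intro hE
    refine le_antisymm (fun x hx => ?_) ?_
    · obtain ⟨⟨v, t⟩, rfl⟩ := IsLocalizedModule.mk'_surjective q.asIdeal.primeCompl (loc q n) x
      rw [Function.uncurry_apply_pair, LinearMap.mem_ker] at hx
      have hx' := congrArg (fun y => (t : S) • y) hx
      simp only [smul_zero, ← LinearMap.map_smul_of_tower] at hx'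
      rw [← Submonoid.smul_def, IsLocalizedModule.mk'_cancel', loc_apply, map_mulVecLin, ← loc_apply,
        IsLocalizedModule.eq_zero_iff q.asIdeal.primeCompl] at hx'
      obtain ⟨c, hc⟩ := hx'
      obtain ⟨s, hs⟩ := hE ((c : S) • v) (by rw [map_smul]; exact hc)
      rw [← localized'_range, Submodule.mem_localized']
      refine ⟨_, hs, s * c * t, ?_⟩
      rw [Function.uncurry_apply_pair, ← mul_smul, ← Submonoid.coe_mul, ← Submonoid.smul_def,
        IsLocalizedModule.mk'_cancel_left]
    · rintro _ ⟨w, rfl⟩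
      exact comp_eq_zero _ φ ψ h w

variable (R) in
theorem flat_coker_iff :
    Module.Flat R (LocalizedModule q.asIdeal.primeCompl ((Fin m → S) ⧸ LinearMap.range φ.mulVecLin)) ↔
      Module.Flat R ((Fin m → L) ⧸ LinearMap.range (φ.map (algebraMap S L)).mulVecLin) := by
  let f := (LinearMap.range φ.mulVecLin).toLocalizedQuotient' L q.asIdeal.primeCompl (loc q m)
  let e := ((IsLocalizedModule.iso q.asIdeal.primeCompl f).trans
    ((Submodule.quotEquivOfEq _ _ (localized'_range φ q)).restrictScalars S)).restrictScalars R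
  exact ⟨fun _ => Module.Flat.of_linearEquiv e.symm, fun _ => Module.Flat.of_linearEquiv e⟩

variable (R) in
/-- Fibrewise exactness at the middle term is exactness plus flatness of the cokernel. -/
theorem fibExactAt_iff_exactAt [IsNoetherianRing S] [Module.Flat R S] (h : φ * ψ = 0)
    (hψ : Module.Flat R ((Fin n → L) ⧸ LinearMap.range (ψ.map (algebraMap S L)).mulVecLin)) :
    FibExactAt R φ ψ q ↔ ExactAt φ ψ q ∧
      Module.Flat R ((Fin m → L) ⧸ LinearMap.range (φ.map (algebraMap S L)).mulVecLin) := by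
  letI : Algebra (Localization.AtPrime p) L := (Localization.localRingHom p q.asIdeal (algebraMap R S) rfl).toAlgebra
  haveI : IsLocalHom (algebraMap (Localization.AtPrime p) L) :=
    inferInstanceAs (IsLocalHom (Localization.localRingHom p q.asIdeal (algebraMap R S) rfl))
  haveI : IsScalarTower R (Localization.AtPrime p) L := IsScalarTower.of_algebraMap_eq fun r => by
    rw [RingHom.algebraMap_toAlgebra, Localization.localRingHom_to_map, IsScalarTower.algebraMap_apply R S L]
  haveI : IsNoetherianRing L := IsLocalization.isNoetherianRing q.asIdeal.primeCompl _ inferInstance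
  haveI : Module.Flat R L := Module.Flat.trans R S L
  haveI : Module.Flat (Localization.AtPrime p) L :=
    (Module.flat_iff_of_isLocalization (Localization.AtPrime p) (Ideal.primeCompl p) L).mpr inferInstance
  haveI := (Module.flat_iff_of_isLocalization (Localization.AtPrime p) (Ideal.primeCompl p) _).mpr hψ
  have hP : (p).map (algebraMap R L) =
      (IsLocalRing.maximalIdeal (Localization.AtPrime p)).map (algebraMap (Localization.AtPrime p) L) := by
    rw [← Localization.AtPrime.map_eq_maximalIdeal, Ideal.map_map, ← IsScalarTower.algebraMap_eq]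
  rw [fibExactAt_iff R φ ψ q h, hP,
    ← Module.flat_iff_of_isLocalization (Localization.AtPrime p) (Ideal.primeCompl p)
      ((Fin m → L) ⧸ LinearMap.range (φ.map (algebraMap S L)).mulVecLin)]
  exact ⟨fun hf => step _ _ (comp_eq_zero _ φ ψ h) hf,
    fun hf v hv => step_conv _ _ (comp_eq_zero _ φ ψ h) hf.1 hf.2 v hv⟩

omit [Algebra R S] in
theorem isOpen_exactAt [IsNoetherianRing S] (h : φ * ψ = 0) : IsOpen {q | ExactAt φ ψ q} := by
  classical
  refine isOpen_iff_forall_mem_open.mpr fun q hq => ?_
  rw [Set.mem_setOf_eq, exactAt_iff φ ψ q h] at hq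
  obtain ⟨T, hT⟩ := IsNoetherian.noetherian (LinearMap.ker φ.mulVecLin)
  have hker : ∀ v : T, φ.mulVecLin v.1 = 0 := fun v => (hT ▸ Submodule.subset_span v.2 : v.1 ∈ LinearMap.ker φ.mulVecLin)
  choose s hs using fun v : T => hq v.1 (hker v)
  refine ⟨PrimeSpectrum.basicOpen (∏ v : T, (s v : S)), fun q' hq' => ?_, (PrimeSpectrum.basicOpen _).isOpen, ?_⟩
  · rw [Set.mem_setOf_eq, exactAt_iff φ ψ q' h]
    intro v hv
    refine ⟨⟨∏ v : T, (s v : S), hq'⟩, ?_⟩
    have hle : Submodule.span S (T : Set (Fin n → S)) ≤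
        (LinearMap.range ψ.mulVecLin).comap (DistribMulAction.toLinearMap S (Fin n → S) (∏ v : T, (s v : S))) := by
      refine Submodule.span_le.mpr fun x hx => ?_
      show (∏ v : T, (s v : S)) • x ∈ LinearMap.range ψ.mulVecLin
      obtain ⟨c, hc⟩ := Finset.dvd_prod_of_mem (fun v : T => (s v : S)) (Finset.mem_univ ⟨x, hx⟩)
      rw [hc, mul_comm, mul_smul]
      exact Submodule.smul_mem _ c (hs ⟨x, hx⟩)
    exact hle (hT.symm ▸ (LinearMap.mem_ker.mpr hv))
  · exact Submonoid.prod_mem q.asIdeal.primeCompl fun v _ => (s v).2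

end Pair

variable (R S : Type u) [CommRing R] [IsNoetherianRing R] [CommRing S] [Algebra R S] [Algebra.FiniteType R S]
  [Module.Flat R S] (e : ℕ) (n : ℕ → ℕ) (φ : (i : ℕ) → Matrix (Fin (n i)) (Fin (n (i + 1))) S)

/-- Fibrewise exactness is open. -/
theorem isOpen_fibExact (hφ : ∀ i, i + 2 ≤ e → φ i * φ (i + 1) = 0) :
    IsOpen {q : PrimeSpectrum S |
      (∀ i, i + 2 ≤ e →
        LinearMap.ker (Matrix.mulVecLin ((φ i).map (algebraMap S (EGA4.FibLocRing R S q.asIdeal)))) =
          LinearMap.range (Matrix.mulVecLin ((φ (i + 1)).map (algebraMap S (EGA4.FibLocRing R S q.asIdeal))))) ∧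
      (1 ≤ e → Function.Injective
        (Matrix.mulVecLin ((φ (e - 1)).map (algebraMap S (EGA4.FibLocRing R S q.asIdeal)))))} := by
  haveI : IsNoetherianRing S := Algebra.FiniteType.isNoetherianRing R S
  obtain rfl | he := Nat.eq_zero_or_pos e
  · convert isOpen_univ
    exact Set.eq_univ_of_forall fun q => ⟨fun i hi => absurd hi (by omega), fun h => absurd h (by omega)⟩
  let Z : Matrix (Fin (n (e - 1 + 1))) (Fin 0) S := 0
  have hZ : φ (e - 1) * Z = 0 := Matrix.mul_zero _
  let fl (i : ℕ) : Set (PrimeSpectrum S) :=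
    FlatLib.flatLocus R S ((Fin (n i) → S) ⧸ LinearMap.range (φ i).mulVecLin)
  let G : Set (PrimeSpectrum S) :=
    (⋂ i ∈ {i | i + 2 ≤ e}, ({q | ExactAt (φ i) (φ (i + 1)) q} ∩ fl i)) ∩ ({q | ExactAt (φ (e - 1)) Z q} ∩ fl (e - 1))
  have hG : IsOpen G := by
    refine (Set.Finite.isOpen_biInter (Set.Finite.subset (Set.finite_Iio e) fun i hi => ?_) fun i hi => ?_).inter
      ((isOpen_exactAt _ _ hZ).inter FlatLib.isOpen_flatLocus)
    · show i < e
      have : i + 2 ≤ e := hi
      omega
    · exact (isOpen_exactAt _ _ (hφ i hi)).inter FlatLib.isOpen_flatLocus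
  convert hG using 1
  ext q
  have hzero : ∀ {O : Type u} [CommRing O] (g : S →+* O), (Z.map g).mulVecLin = 0 := fun g => by
    ext v i
    simp [Z]
  have htop : Function.Injective
      ((φ (e - 1)).map (algebraMap S (EGA4.FibLocRing R S q.asIdeal))).mulVecLin ↔ FibExactAt R (φ (e - 1)) Z q := by
    rw [← LinearMap.ker_eq_bot, FibExactAt, hzero, LinearMap.range_zero]
  haveI : Module.Flat R (Localization.AtPrime q.asIdeal) := Module.Flat.trans R S (Localization.AtPrime q.asIdeal)
  haveI : Module.Flat R (Fin (n (e - 1 + 1)) → Localization.AtPrime q.asIdeal) :=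
    Module.Flat.trans R (Localization.AtPrime q.asIdeal) _
  have hZflat : Module.Flat R ((Fin (n (e - 1 + 1)) → Localization.AtPrime q.asIdeal) ⧸
      LinearMap.range (Z.map (algebraMap S (Localization.AtPrime q.asIdeal))).mulVecLin) :=
    Module.Flat.of_linearEquiv ((Submodule.quotEquivOfEqBot _ (by rw [hzero, LinearMap.range_zero])).restrictScalars R)
  simp only [G, fl, FlatLib.flatLocus, Set.mem_inter_iff, Set.mem_iInter, Set.mem_setOf_eq]
  constructor
  · rintro ⟨h1, h2⟩
    have h0 := (fibExactAt_iff_exactAt R _ _ q hZ hZflat).mp (htop.mp (h2 he))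
    have key : ∀ d i, i + 1 + d = e →
        Module.Flat R ((Fin (n i) → Localization.AtPrime q.asIdeal) ⧸
          LinearMap.range ((φ i).map (algebraMap S (Localization.AtPrime q.asIdeal))).mulVecLin) := by
      intro d
      induction d with
      | zero =>
        intro i hi
        obtain rfl : i = e - 1 := by omega
        exact h0.2
      | succ d ih =>
        intro i hi
        exact ((fibExactAt_iff_exactAt R _ _ q (hφ i (by omega)) (ih (i + 1) (by omega))).mp (h1 i (by omega))).2
    refine ⟨fun i hi => ?_, h0.1, (flat_coker_iff R _ q).mpr h0.2⟩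
    have := (fibExactAt_iff_exactAt R _ _ q (hφ i hi) (key (e - (i + 2)) (i + 1) (by omega))).mp (h1 i hi)
    exact ⟨this.1, (flat_coker_iff R _ q).mpr this.2⟩
  · rintro ⟨h1, h2, h3⟩
    refine ⟨fun i hi => ?_, fun _ => htop.mpr ((fibExactAt_iff_exactAt R _ _ q hZ hZflat).mpr ⟨h2, (flat_coker_iff R _ q).mp h3⟩)⟩
    refine (fibExactAt_iff_exactAt R _ _ q (hφ i hi) ?_).mpr ⟨(h1 i hi).1, (flat_coker_iff R _ q).mp (h1 i hi).2⟩
    refine (flat_coker_iff R _ q).mp ?_
    by_cases hi' : i + 1 + 2 ≤ e
    · exact (h1 (i + 1) hi').2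
    · obtain hj : i + 1 = e - 1 := by omega
      rw [hj]
      exact h3

end FibFreeExactLib
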